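import Mathlib
import Groth.Agent.Lib.Helper12.HenselizationDim
import Groth.Agent.Lib.helper19.RegularLocal

/-!
# Helper24 — finite base field extension of a regular local algebra with residue field the base
field is again regular local; hence such an algebra is geometrically reduced
-/

set_option autoImplicit false
universe u v w

open TensorProduct IsLocalRing

namespace Groth.Agent.Lib.Helper24.RegUnit

section

variable (k : Type u) (O : Type v) (K' : Type w) [Field k] [CommRing O] [Algebra k O]
  [Field K'] [Algebra k K']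

/-- the extended maximal ideal is maximal -/
theorem isMaximal_map_maximalIdeal [IsLocalRing O]
    (hres : Function.Surjective (algebraMap k (ResidueField O))) :
    (Ideal.map (algebraMap O (O ⊗[k] K')) (maximalIdeal O)).IsMaximal := by
  set I := Ideal.map (algebraMap O (O ⊗[k] K')) (maximalIdeal O) with hI
  have hne : I ≠ ⊤ := by
    intro h
    have h1 := Ideal.comap_map_eq_self_of_faithfullyFlat (B := O ⊗[k] K') (maximalIdeal O)
    rw [← hI, h, Ideal.comap_top] at h1
    exact (maximalIdeal.isMaximal O).ne_top h1.symm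
  haveI : Nontrivial ((O ⊗[k] K') ⧸ I) := Ideal.Quotient.nontrivial_iff.2 hne
  let ψ : K' →+* (O ⊗[k] K') ⧸ I :=
    (Ideal.Quotient.mk I).comp
      ((Algebra.TensorProduct.includeRight : K' →ₐ[k] O ⊗[k] K') : K' →+* O ⊗[k] K')
  have hψ : Function.Surjective ψ := by
    intro y
    obtain ⟨t, rfl⟩ := Ideal.Quotient.mk_surjective y
    induction t using TensorProduct.induction_on with
    | zero => exact ⟨0, map_zero _⟩
    | tmul o x =>
      obtain ⟨c, hc⟩ := hres (residue O o)
      have hmem : o - algebraMap k O c ∈ maximalIdeal O := by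
        rw [← Ideal.Quotient.eq_zero_iff_mem]
        change residue O (o - algebraMap k O c) = 0
        rw [map_sub, ← hc]
        change algebraMap k (ResidueField O) c - residue O (algebraMap k O c) = 0
        rw [sub_eq_zero]
        rfl
      refine ⟨c • x, ?_⟩
      change Ideal.Quotient.mk I ((1 : O) ⊗ₜ[k] (c • x)) = Ideal.Quotient.mk I (o ⊗ₜ[k] x)
      rw [Ideal.Quotient.eq]
      have e : (1 : O) ⊗ₜ[k] (c • x) - o ⊗ₜ[k] x =
          -(algebraMap O (O ⊗[k] K') (o - algebraMap k O c) * ((1 : O) ⊗ₜ[k] x)) := by
        rw [Algebra.TensorProduct.algebraMap_apply, Algebra.TensorProduct.tmul_mul_tmul,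
          Algebra.algebraMap_self_apply, mul_one, one_mul, TensorProduct.sub_tmul,
          Algebra.algebraMap_eq_smul_one, TensorProduct.smul_tmul]
        abel
      rw [e]
      exact I.neg_mem (I.mul_mem_right _ (Ideal.mem_map_of_mem _ hmem))
    | add t₁ t₂ h₁ h₂ =>
      obtain ⟨x₁, hx₁⟩ := h₁
      obtain ⟨x₂, hx₂⟩ := h₂
      exact ⟨x₁ + x₂, by rw [map_add, hx₁, hx₂, map_add]⟩
  have hbij : Function.Bijective ψ := ⟨ψ.injective, hψ⟩
  have hfield : IsField ((O ⊗[k] K') ⧸ I) :=
    (RingEquiv.ofBijective ψ hbij).symm.toMulEquiv.isField (Field.toIsField K')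
  exact Ideal.Quotient.maximal_of_isField I hfield

/-- `O ⊗[k] K'` is local for `K'/k` finite -/
theorem isLocalRing_tensor [IsLocalRing O] [Module.Finite k K']
    (hres : Function.Surjective (algebraMap k (ResidueField O))) :
    IsLocalRing (O ⊗[k] K') ∧
      ∀ [IsLocalRing (O ⊗[k] K')], maximalIdeal (O ⊗[k] K') =
        Ideal.map (algebraMap O (O ⊗[k] K')) (maximalIdeal O) := by
  have hmax := isMaximal_map_maximalIdeal k O K' hres
  have huniq : ∀ n : Ideal (O ⊗[k] K'), n.IsMaximal →
      n = Ideal.map (algebraMap O (O ⊗[k] K')) (maximalIdeal O) := by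
    intro n hn
    haveI : Algebra.IsIntegral O (O ⊗[k] K') := Algebra.IsIntegral.of_finite O (O ⊗[k] K')
    have h1 : (Ideal.comap (algebraMap O (O ⊗[k] K')) n).IsMaximal :=
      Ideal.isMaximal_comap_of_isIntegral_of_isMaximal (R := O) n
    have h2 : Ideal.comap (algebraMap O (O ⊗[k] K')) n = maximalIdeal O :=
      IsLocalRing.eq_maximalIdeal h1
    have h3 : Ideal.map (algebraMap O (O ⊗[k] K')) (maximalIdeal O) ≤ n := by
      rw [Ideal.map_le_iff_le_comap, h2]
    exact (hmax.eq_of_le hn.ne_top h3).symm
  have hloc : IsLocalRing (O ⊗[k] K') :=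
    IsLocalRing.of_unique_max_ideal ⟨_, hmax, fun n hn => huniq n hn⟩
  refine ⟨hloc, ?_⟩
  intro _
  exact huniq _ (maximalIdeal.isMaximal _)

/-- **finite base change of a regular local algebra with residue field `k` is regular** -/
theorem isRegularLocalRing_tensor [IsRegularLocalRing O] [Module.Finite k K']
    (hres : Function.Surjective (algebraMap k (ResidueField O))) :
    IsRegularLocalRing (O ⊗[k] K') := by
  obtain ⟨hloc, hmax⟩ := isLocalRing_tensor k O K' hres
  haveI := hloc
  haveI : IsNoetherianRing (O ⊗[k] K') := IsNoetherianRing.of_finite O (O ⊗[k] K')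
  apply IsRegularLocalRing.of_spanFinrank_maximalIdeal_le
  rw [hmax]
  have h1 : (Ideal.map (algebraMap O (O ⊗[k] K')) (maximalIdeal O)).spanFinrank ≤
      (maximalIdeal O).spanFinrank :=
    Ideal.spanFinrank_map_le_of_fg _ (IsNoetherian.noetherian _)
  have h2 : ((maximalIdeal O).spanFinrank : WithBot ℕ∞) = ringKrullDim O :=
    IsRegularLocalRing.spanFinrank_maximalIdeal
  have h3 : ringKrullDim O ≤ ringKrullDim (O ⊗[k] K') :=
    Groth.Agent.Lib.Helper12.ringKrullDim_le_of_faithfullyFlat O (O ⊗[k] K')
  refine le_trans ?_ (h2 ▸ h3)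
  exact_mod_cast h1

end

/-- a regular local algebra with residue field the base field stays reduced after any algebraic
base field extension -/
theorem isReduced_tensor_algebraic (k : Type u) (O : Type v) (K : Type w) [Field k] [CommRing O]
    [Algebra k O] [Field K] [Algebra k K] [Algebra.IsAlgebraic k K] [IsRegularLocalRing O]
    (hres : Function.Surjective (algebraMap k (ResidueField O))) :
    IsReduced (K ⊗[k] O) := by
  have h1 : IsReduced (O ⊗[k] K) := by
    refine IsReduced.tensorProduct_of_flat_of_forall_fg fun B hB => ?_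
    have hfield : IsField B := Subalgebra.isField_of_algebraic B
    letI : Field B := hfield.toField
    haveI : Algebra.FiniteType k B := (Subalgebra.fg_iff_finiteType B).1 hB
    haveI : Algebra.IsIntegral k B :=
      Algebra.IsIntegral.of_injective B.val Subtype.val_injective
    haveI : Module.Finite k B := Algebra.IsIntegral.finite
    haveI := isRegularLocalRing_tensor k O B hres
    haveI := Groth.Agent.Lib.helper19.isDomain_of_isRegularLocalRing (O ⊗[k] B)
    infer_instance
  exact isReduced_of_injective (Algebra.TensorProduct.comm k K O).toRingHom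
    (Algebra.TensorProduct.comm k K O).injective

end Groth.Agent.Lib.Helper24.RegUnit
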