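import Mathlib

/-!
# Helper24 — the stalk at a rational point (image of a section) of a `k`-scheme has residue field `k`
-/

set_option autoImplicit false
universe u

open AlgebraicGeometry CategoryTheory IsLocalRing

namespace Groth.Agent.Lib.Helper24.RegUnit

variable {k : Type u} [Field k]

/-- on `Spec k` every germ at the point comes from `k` -/
theorem germ_surjective_spec_field (pt : ↥(Spec (CommRingCat.of k))) :
    Function.Surjective
      ((Scheme.ΓSpecIso (CommRingCat.of k)).inv ≫
        (Spec (CommRingCat.of k)).presheaf.germ ⊤ pt trivial).hom := by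
  intro t
  obtain ⟨U, hU, s, rfl⟩ := TopCat.Presheaf.exists_germ_eq (Spec (CommRingCat.of k)).presheaf t
  haveI : Subsingleton ↥(Spec (CommRingCat.of k)) :=
    inferInstanceAs (Subsingleton (PrimeSpectrum k))
  have hUtop : U = ⊤ := by
    ext x
    simp only [TopologicalSpace.Opens.coe_top, Set.mem_univ, iff_true]
    rw [Subsingleton.elim x pt]
    exact hU
  subst hUtop
  refine ⟨(Scheme.ΓSpecIso (CommRingCat.of k)).hom.hom s, ?_⟩
  change (Spec (CommRingCat.of k)).presheaf.germ ⊤ pt trivial
    ((Scheme.ΓSpecIso (CommRingCat.of k)).inv.hom ((Scheme.ΓSpecIso (CommRingCat.of k)).hom.hom s)) = _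
  have : (Scheme.ΓSpecIso (CommRingCat.of k)).inv.hom
      ((Scheme.ΓSpecIso (CommRingCat.of k)).hom.hom s) = s := by
    change ((Scheme.ΓSpecIso (CommRingCat.of k)).hom ≫ (Scheme.ΓSpecIso (CommRingCat.of k)).inv).hom s = s
    rw [Iso.hom_inv_id]
    rfl
  rw [this]

/-- the residue field at the image of a section is `k` -/
theorem residue_surjective_of_section {X : Scheme.{u}} (f : X ⟶ Spec (CommRingCat.of k))
    (s : Spec (CommRingCat.of k) ⟶ X) (hs : s ≫ f = 𝟙 _) (pt : ↥(Spec (CommRingCat.of k))) :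
    letI := ((Scheme.ΓSpecIso (CommRingCat.of k)).inv ≫ f.appTop ≫
      X.presheaf.germ ⊤ (s pt) trivial).hom.toAlgebra
    Function.Surjective (algebraMap k (ResidueField (X.presheaf.stalk (s pt)))) := by
  letI := ((Scheme.ΓSpecIso (CommRingCat.of k)).inv ≫ f.appTop ≫
      X.presheaf.germ ⊤ (s pt) trivial).hom.toAlgebra
  intro y
  obtain ⟨o, rfl⟩ := IsLocalRing.residue_surjective y
  obtain ⟨c, hc⟩ := germ_surjective_spec_field pt (s.stalkMap pt o)
  refine ⟨c, ?_⟩
  -- the composite `k → O_{X,s pt} → O_{Spec k, pt}` is the canonical map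
  have hcomp : ((Scheme.ΓSpecIso (CommRingCat.of k)).inv ≫ f.appTop ≫
      X.presheaf.germ ⊤ (s pt) trivial) ≫ s.stalkMap pt =
      (Scheme.ΓSpecIso (CommRingCat.of k)).inv ≫
        (Spec (CommRingCat.of k)).presheaf.germ ⊤ pt trivial := by
    rw [Category.assoc, Category.assoc, Scheme.Hom.germ_stalkMap]
    have h1 : f.appTop ≫ s.app ⊤ = (s ≫ f).appTop := by
      rw [Scheme.Hom.comp_appTop]
      rfl
    rw [← Category.assoc f.appTop, h1, hs]
    simp
  have h2 : s.stalkMap pt (algebraMap k (X.presheaf.stalk (s pt)) c) = s.stalkMap pt o := by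
    rw [← hc]
    exact congrArg (fun φ => φ.hom c) hcomp
  -- `o - c` is a non-unit
  have h3 : o - algebraMap k (X.presheaf.stalk (s pt)) c ∈ maximalIdeal (X.presheaf.stalk (s pt)) := by
    rw [mem_maximalIdeal, mem_nonunits_iff]
    intro hu
    have hu' := hu.map (s.stalkMap pt).hom
    rw [map_sub] at hu'
    have : (s.stalkMap pt).hom o - (s.stalkMap pt).hom
        (algebraMap k (X.presheaf.stalk (s pt)) c) = 0 := by
      rw [sub_eq_zero]
      exact h2.symm
    rw [this] at hu'
    exact not_isUnit_zero hu'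
  change residue _ (algebraMap k (X.presheaf.stalk (s pt)) c) = residue _ o
  rw [← sub_eq_zero, ← map_sub, residue_eq_zero_iff]
  have := Ideal.neg_mem_iff (maximalIdeal (X.presheaf.stalk (s pt))) |>.2 h3
  rwa [neg_sub] at this

end Groth.Agent.Lib.Helper24.RegUnit
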