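import Mathlib
import Groth.Agent.Lib.Helper24.RegUnit.FiniteBC
import Groth.Agent.Lib.Helper24.RegUnit.Rational
import Groth.Agent.S5388

/-!
# Helper24 — a group scheme locally of finite type over a field whose local ring at the unit point
is regular is smooth
-/

set_option autoImplicit false
universe u

open AlgebraicGeometry CategoryTheory MonoidalCategory CartesianMonoidalCategory MonObj IsLocalRing

namespace Groth.Agent.Lib.Helper24.RegUnit

variable {k : Type u} [Field k] (G : Over (Spec (CommRingCat.of k))) [GrpObj G]

theorem unit_section (G : Over (Spec (CommRingCat.of k))) [GrpObj G] :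
    η[G].left ≫ G.hom = 𝟙 (Spec (CommRingCat.of k)) := Over.w η[G]

/-- the stalk at the unit point has residue field `k` -/
theorem residue_surjective_unit (pt : ↥(𝟙_ (Over (Spec (CommRingCat.of k)))).left) :
    letI := ((Scheme.ΓSpecIso (CommRingCat.of k)).inv ≫ G.hom.appTop ≫
      G.left.presheaf.germ ⊤ (η[G].left.base pt) trivial).hom.toAlgebra
    Function.Surjective (algebraMap k (ResidueField (G.left.presheaf.stalk (η[G].left.base pt)))) :=
  residue_surjective_of_section G.hom η[G].left (unit_section G) pt

/-- **regular at the unit ⇒ smooth** -/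
theorem smooth_of_isRegularLocalRing_unit [LocallyOfFiniteType G.hom]
    (pt : ↥(𝟙_ (Over (Spec (CommRingCat.of k)))).left)
    (hreg : IsRegularLocalRing (G.left.presheaf.stalk (η[G].left.base pt))) : Smooth G.hom := by
  letI := ((Scheme.ΓSpecIso (CommRingCat.of k)).inv ≫ G.hom.appTop ≫
      G.left.presheaf.germ ⊤ (η[G].left.base pt) trivial).hom.toAlgebra
  have hres := residue_surjective_unit G pt
  have hred := isReduced_tensor_algebraic k (G.left.presheaf.stalk (η[G].left.base pt))
    (AlgebraicClosure k) hres
  exact Groth.Agent.S5388.result k G pt (AlgebraicClosure k) hred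

end Groth.Agent.Lib.Helper24.RegUnit
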