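import Mathlib
import Groth.Agent.Lib.Helper24.RegUnit.Smooth
import Groth.Agent.Lib.Helper5.RegSmoothScheme2
import Groth.Agent.S0354
import Groth.Agent.S5337

/-!
# Helper24 — dimension vs. cotangent space at the unit of a group scheme over a field
-/

set_option autoImplicit false
universe u

open AlgebraicGeometry CategoryTheory MonoidalCategory CartesianMonoidalCategory MonObj IsLocalRing

namespace Groth.Agent.Lib.Helper24.RegUnit

variable {k : Type u} [Field k] (G : Over (Spec (CommRingCat.of k))) [GrpObj G]
  [LocallyOfFiniteType G.hom]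

/-- the unit point is closed -/
theorem isClosed_unit (pt : ↥(𝟙_ (Over (Spec (CommRingCat.of k)))).left) :
    IsClosed ({η[G].left.base pt} : Set G.left) := by
  haveI : JacobsonSpace G.left := LocallyOfFiniteType.jacobsonSpace G.hom
  haveI : LocallyOfFiniteType (η[G].left ≫ G.hom) := by
    rw [unit_section G]
    exact MorphismProperty.id_mem _ _
  haveI : LocallyOfFiniteType η[G].left := locallyOfFiniteType_of_comp η[G].left G.hom
  haveI : Subsingleton ↥(Spec (CommRingCat.of k)) :=
    inferInstanceAs (Subsingleton (PrimeSpectrum k))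
  have hpt : pt ∈ closedPoints ↥(𝟙_ (Over (Spec (CommRingCat.of k)))).left := by
    rw [mem_closedPoints_iff]
    have : ({pt} : Set ↥(𝟙_ (Over (Spec (CommRingCat.of k)))).left) = Set.univ :=
      Set.eq_univ_of_forall fun x => (Subsingleton.elim (α := ↥(Spec (CommRingCat.of k))) x pt) ▸ rfl
    rw [this]
    exact isClosed_univ
  have := η[G].left.closePoints_subset_preimage_closedPoints hpt
  exact mem_closedPoints_iff.1 this

theorem natCast_eq (n : ℕ) : ((n : ℕ∞) : WithBot ℕ∞) = (n : WithBot ℕ∞) := rfl

instance isNoetherianRing_stalk (x : G.left) : IsNoetherianRing (G.left.presheaf.stalk x) := by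
  haveI : IsLocallyNoetherian G.left := LocallyOfFiniteType.isLocallyNoetherian G.hom
  infer_instance

/-- `dim G ≤ dim m_e/m_e²` -/
theorem dim_le_cotangent (pt : ↥(𝟙_ (Over (Spec (CommRingCat.of k)))).left) :
    topologicalKrullDim G.left ≤
      ((Module.finrank (ResidueField (G.left.presheaf.stalk (η[G].left.base pt)))
        (CotangentSpace (G.left.presheaf.stalk (η[G].left.base pt))) : ℕ∞) : WithBot ℕ∞) := by
  rw [← Groth.Agent.S0354.result k G _ (isClosed_unit G pt), natCast_eq,
    ← spanFinrank_maximalIdeal_eq_finrank_cotangentSpace]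
  exact ringKrullDim_le_spanFinrank_maximalIdeal _

/-- `G` smooth iff `dim G = dim m_e/m_e²` -/
theorem smooth_iff_dim_eq (pt : ↥(𝟙_ (Over (Spec (CommRingCat.of k)))).left) :
    Smooth G.hom ↔ topologicalKrullDim G.left =
      ((Module.finrank (ResidueField (G.left.presheaf.stalk (η[G].left.base pt)))
        (CotangentSpace (G.left.presheaf.stalk (η[G].left.base pt))) : ℕ∞) : WithBot ℕ∞) := by
  rw [← Groth.Agent.S0354.result k G _ (isClosed_unit G pt), natCast_eq]
  constructor
  · intro hs
    have hreg := Groth.Agent.Lib.Helper5.RegSmooth.regular_stalk_of_smooth k G.left G.hom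
      (η[G].left.base pt)
    exact ((IsRegularLocalRing.iff_finrank_cotangentSpace _).1 hreg).symm
  · intro h
    have hreg : IsRegularLocalRing (G.left.presheaf.stalk (η[G].left.base pt)) :=
      (IsRegularLocalRing.iff_finrank_cotangentSpace _).2 h.symm
    exact smooth_of_isRegularLocalRing_unit G pt hreg

/-- `G` is smooth iff it is smooth on some nonempty open -/
theorem smooth_of_smooth_open (W : G.left.Opens) (hW : (W : Set G.left).Nonempty)
    (h : Smooth (W.ι ≫ G.hom)) : Smooth G.hom := by
  haveI : Flat G.hom := inferInstance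
  have key := (Groth.Agent.S5337.result k G (𝟙_ (Over (Spec (CommRingCat.of k)))) (toUnit G) W hW).2.2.1
  have e : (toUnit G).left = G.hom := by
    have := Over.w (toUnit G)
    rw [← this]
    exact (Category.comp_id _).symm
  rw [e] at key
  exact key h

end Groth.Agent.Lib.Helper24.RegUnit
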